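import Groth.Agent.Lib.DMod.Basic
import Mathlib.LinearAlgebra.Trace
import Mathlib.Data.Int.Interval

/-!
The alternating trace is invariant under homotopy and under homotopy equivalence.
-/

set_option autoImplicit false
set_option linter.unusedSectionVars false
set_option backward.isDefEq.respectTransparency false

universe u

open CategoryTheory CategoryTheory.Limits

attribute [local instance] HasDerivedCategory.standard

namespace Groth.Agent.AltTr9

variable {Λ : Type u} [CommRing Λ]

theorem sum_telescope (F : ℤ → Λ) (a b : ℤ) (hab : a - 1 ≤ b) :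
    ∑ i ∈ Finset.Icc a b, (F i - F (i - 1)) = F b - F (a - 1) := by
  induction b, hab using Int.leInduction with
  | base => rw [Finset.Icc_eq_empty (by omega), Finset.sum_empty, sub_self]
  | succ b hb ih =>
    rw [← Finset.insert_Icc_right_eq_Icc_add_one (by omega), Finset.sum_insert (by simp), ih,
      add_sub_cancel_right]
    abel

/-- The alternating trace. -/
noncomputable def alt (P : DRing.Cx Λ) (a b : ℤ) (f : P ⟶ P) : Λ :=
  ∑ i ∈ Finset.Icc a b, ((i.negOnePow : ℤˣ) : ℤ) • LinearMap.trace Λ (P.X i) (f.f i).hom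

variable {P Q : DRing.Cx Λ} {a b : ℤ}

theorem alt_congr (hP : DRing.VanishesOutside P a b) (hPf : DRing.TermwiseFiniteFree P) {f f' : P ⟶ P}
    (h : Homotopy f f') : alt P a b f = alt P a b f' := by
  rcases lt_or_ge b a with hba | hab
  · simp [alt, Finset.Icc_eq_empty (show ¬ a ≤ b by omega)]
  let T : ℤ → Λ := fun i => LinearMap.trace Λ (P.X i) (P.d i (i + 1) ≫ h.hom (i + 1) i).hom
  let F : ℤ → Λ := fun i => ((i.negOnePow : ℤˣ) : ℤ) • T i
  have hsum : alt P a b f - alt P a b f' = ∑ i ∈ Finset.Icc a b, (F i - F (i - 1)) := by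
    rw [alt, alt, ← Finset.sum_sub_distrib]
    refine Finset.sum_congr rfl fun i _ => ?_
    obtain ⟨j, rfl⟩ : ∃ j, i = j + 1 := ⟨i - 1, by omega⟩
    have hc := h.comm (j + 1)
    rw [dNext_eq h.hom (show (ComplexShape.up ℤ).Rel (j + 1) (j + 1 + 1) from rfl),
      prevD_eq h.hom (show (ComplexShape.up ℤ).Rel j (j + 1) from rfl)] at hc
    have hd : LinearMap.trace Λ (P.X (j + 1)) (h.hom (j + 1) j ≫ P.d j (j + 1)).hom = T j := by
      haveI := (hPf j).1
      haveI := (hPf j).2
      haveI := (hPf (j + 1)).1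
      haveI := (hPf (j + 1)).2
      simp only [T, ModuleCat.hom_comp]
      exact LinearMap.trace_comp_comm' _ _
    rw [hc, ModuleCat.hom_add, ModuleCat.hom_add, map_add, map_add, hd, add_sub_cancel_right]
    simp only [F, T, Int.negOnePow_succ, Units.val_neg, neg_smul, smul_add]
    abel
  have ha : T (a - 1) = 0 := by
    haveI := ModuleCat.isZero_iff_subsingleton.1 (hP (a - 1) (Or.inl (by omega)))
    simp only [T]
    rw [Subsingleton.elim (P.d (a - 1) (a - 1 + 1) ≫ h.hom (a - 1 + 1) (a - 1)).hom 0, map_zero]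
  have hb : T b = 0 := by
    have : P.d b (b + 1) = 0 := (hP (b + 1) (Or.inr (by omega))).eq_of_tgt _ _
    simp [T, this]
  rw [← sub_eq_zero, hsum, sum_telescope F a b (by omega)]
  simp [F, ha, hb]

theorem alt_comm (hPf : DRing.TermwiseFiniteFree P) (hQf : DRing.TermwiseFiniteFree Q)
    (u : P ⟶ Q) (v : Q ⟶ P) : alt P a b (u ≫ v) = alt Q a b (v ≫ u) := by
  refine Finset.sum_congr rfl fun i _ => ?_
  haveI := (hPf i).1
  haveI := (hPf i).2
  haveI := (hQf i).1
  haveI := (hQf i).2
  simp only [HomologicalComplex.comp_f, ModuleCat.hom_comp]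
  rw [LinearMap.trace_comp_comm']

theorem homotopy_of_eq [P.IsKProjective] {x y : P ⟶ Q}
    (h : DerivedCategory.Q.map x = DerivedCategory.Q.map y) : Nonempty (Homotopy x y) := by
  obtain ⟨H⟩ := (DMod.map_eq_zero_iff (x - y)).1 (by rw [Functor.map_sub, h, sub_self])
  exact ⟨Homotopy.equivSubZero.symm H⟩

theorem alt_eq_of_iso (hP : DRing.VanishesOutside P a b) (hQ : DRing.VanishesOutside Q a b)
    (hPf : DRing.TermwiseFiniteFree P) (hQf : DRing.TermwiseFiniteFree Q) (f : P ⟶ P) (g : Q ⟶ Q)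
    (α : DRing.toD P ≅ DRing.toD Q)
    (h : α.hom ≫ DerivedCategory.Q.map g = DerivedCategory.Q.map f ≫ α.hom) :
    alt P a b f = alt Q a b g := by
  haveI : P.IsStrictlyLE b := ((DMod.vanishesOutside_iff P a b).1 hP).2
  haveI : Q.IsStrictlyLE b := ((DMod.vanishesOutside_iff Q a b).1 hQ).2
  haveI : P.IsKProjective := DMod.isKProjective b fun i => by
    haveI := (hPf i).2
    infer_instance
  haveI : Q.IsKProjective := DMod.isKProjective b fun i => by
    haveI := (hQf i).2
    infer_instance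
  obtain ⟨u, hu⟩ := DMod.exists_map_eq α.hom
  obtain ⟨v, hv⟩ := DMod.exists_map_eq α.inv
  obtain ⟨H₁⟩ := homotopy_of_eq (x := f) (y := u ≫ g ≫ v) (by
    rw [Functor.map_comp, Functor.map_comp, hu, hv, reassoc_of% h, α.hom_inv_id, Category.comp_id])
  obtain ⟨H₂⟩ := homotopy_of_eq (x := (g ≫ v) ≫ u) (y := g) (by
    rw [Functor.map_comp, Functor.map_comp, hu, hv, Category.assoc, α.inv_hom_id, Category.comp_id])
  rw [alt_congr hP hPf H₁, alt_comm hPf hQf, alt_congr hQ hQf H₂]

end Groth.Agent.AltTr9
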